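import Mathlib

/-!
# Class numbers of point stabilisers (helper213)

`card_classes_le_of_rel` : `T` the stabiliser of `b`; if every `g ≠ 1` fixing `b` can be moved by some `h ∈ G` such that
the pair `(h g h⁻¹, h b)` is one of the pairs described by `S`, then `T` has at most `1 + |S|` conjugacy classes.
-/

set_option autoImplicit false

namespace Cfsg.Agent.H213.S8

theorem card_classes_le_of_rel {G Ω α : Type*} [Group G] [MulAction G Ω] {T : Subgroup G} {b : Ω}
    (hT : ∀ g : G, g ∈ T ↔ g • b = b) (S : Finset α) (P : α → G → Ω → Prop)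
    (hP : ∀ s x y w w', P s x w → P s y w' → x = y ∧ w = w')
    (hS : ∀ g : G, g ≠ 1 → g • b = b → ∃ s ∈ S, ∃ h : G, P s (h * g * h⁻¹) (h • b)) :
    Nat.card (ConjClasses T) ≤ 1 + S.card := by
  classical
  have key : ∀ c : ConjClasses T, ∃ o : Option S, ∃ t : T, ConjClasses.mk t = c ∧
      ((o = none ∧ t = 1) ∨ ∃ s : S, o = some s ∧ ∃ h : G, P s (h * (t : G) * h⁻¹) (h • b)) := by
    intro c
    obtain ⟨t, rfl⟩ := ConjClasses.exists_rep c
    by_cases ht : t = 1
    · exact ⟨none, t, rfl, Or.inl ⟨rfl, ht⟩⟩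
    · obtain ⟨s, hs, h, hh⟩ := hS (t : G) (fun h0 => ht (Subtype.ext h0)) ((hT _).1 t.2)
      exact ⟨some ⟨s, hs⟩, t, rfl, Or.inr ⟨⟨s, hs⟩, rfl, h, hh⟩⟩
  choose f t ht hf using key
  have hinj : Function.Injective f := by
    intro c c' hcc
    rw [← ht c, ← ht c']
    rcases hf c with ⟨h1, h2⟩ | ⟨s, h1, h, h2⟩
    · rcases hf c' with ⟨h3, h4⟩ | ⟨s', h3, -⟩
      · rw [h2, h4]
      · rw [hcc, h3] at h1
        exact absurd h1 (by simp)
    · rcases hf c' with ⟨h3, -⟩ | ⟨s', h3, h', h4⟩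
      · rw [hcc, h3] at h1
        exact absurd h1 (by simp)
      · have hss : s' = s := by
          rw [hcc, h3] at h1
          exact Option.some.inj h1
        subst hss
        obtain ⟨h5, h6⟩ := hP _ _ _ _ _ h2 h4
        rw [ConjClasses.mk_eq_mk_iff_isConj, isConj_iff]
        have h7 : h'⁻¹ * h ∈ T := by
          rw [hT, mul_smul, h6, inv_smul_smul]
        refine ⟨⟨h'⁻¹ * h, h7⟩, Subtype.ext ?_⟩
        show (h'⁻¹ * h) * (t c : G) * (h'⁻¹ * h)⁻¹ = (t c' : G)
        calc (h'⁻¹ * h) * (t c : G) * (h'⁻¹ * h)⁻¹ = h'⁻¹ * (h * (t c : G) * h⁻¹) * h' := by group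
          _ = h'⁻¹ * (h' * (t c' : G) * h'⁻¹) * h' := by rw [h5]
          _ = (t c' : G) := by group
  have h1 := Nat.card_le_card_of_injective f hinj
  have h2 : Nat.card (Option S) = S.card + 1 := by
    rw [Nat.card_eq_fintype_card, Fintype.card_option, Fintype.card_coe]
  omega

end Cfsg.Agent.H213.S8
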